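import Mathlib.CategoryTheory.Monoidal.Cartesian.Over
import Mathlib.AlgebraicGeometry.Morphisms.Separated
import Groth.Agent.H18Descent.Basic

/-!
# The graph of an effective equivalence relation and separatedness of the quotient
-/

set_option autoImplicit false
set_option linter.style.haveILetI false

noncomputable section

universe u

open CategoryTheory CategoryTheory.Limits AlgebraicGeometry MorphismProperty

namespace Groth.Agent.H14EffRel

set_option backward.isDefEq.respectTransparency false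

variable {X Y S P : Scheme.{u}} {p : X ⟶ Y} {b : Y ⟶ S} {a : X ⟶ S} (ha : p ≫ b = a)
  {f₁ f₂ : P ⟶ X} (sq : IsPullback f₁ f₂ p p) (v : P ⟶ pullback a a)
  (hv₁ : v ≫ pullback.fst a a = f₁) (hv₂ : v ≫ pullback.snd a a = f₂)

include ha sq hv₁ hv₂ in
theorem isPullback_graph :
    IsPullback (f₁ ≫ p) v (pullback.diagonal b)
      (pullback.map a a b b p p (𝟙 S) (by simp [ha]) (by simp [ha])) := by
  subst ha
  refine IsPullback.of_iso (pullback_map_diagonal_isPullback p p b) sq.isoPullback.symm (Iso.refl _) (Iso.refl _)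
    (Iso.refl _) ?_ ?_ (by simp) (by simp)
  · simp only [Iso.symm_hom, Iso.refl_hom, Category.comp_id]
    rw [sq.isoPullback_inv_fst_assoc]
  · simp only [Iso.symm_hom, Iso.refl_hom, Category.comp_id]
    apply pullback.hom_ext <;> simp [hv₁, hv₂]

include ha sq hv₁ hv₂ in
theorem isImmersion_graph : IsImmersion v :=
  MorphismProperty.of_isPullback (P := @IsImmersion) (isPullback_graph ha sq v hv₁ hv₂) inferInstance

include ha sq hv₁ hv₂ in
theorem isClosedImmersion_graph [IsSeparated b] : IsClosedImmersion v :=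
  MorphismProperty.of_isPullback (P := @IsClosedImmersion) (isPullback_graph ha sq v hv₁ hv₂) inferInstance

include ha sq hv₁ hv₂ in
theorem isSeparated_of_graph {Z : Scheme.{u}} (q : Z ⟶ Y) (r : Z ⟶ X) (hr : r ≫ p = q) [Flat q]
    (hc : ∀ V : Y.Opens, IsAffineOpen V → ∃ W : Z.Opens, IsCompact (W : Set Z) ∧ q.base '' (W : Set Z) = (V : Set Y))
    (hv : IsClosedImmersion v) : IsSeparated b := by
  subst ha
  subst hr
  rw [isSeparated_iff]
  let O : Y.affineOpens × Y.affineOpens → (pullback b b).Opens := fun i =>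
    pullback.fst b b ⁻¹ᵁ i.1.1 ⊓ pullback.snd b b ⁻¹ᵁ i.2.1
  have hO : TopologicalSpace.IsOpenCover O := eq_top_iff.2 fun z _ => TopologicalSpace.Opens.mem_iSup.2 (by
    obtain ⟨V₁, hV₁, hz₁, -⟩ := exists_isAffineOpen_mem_and_subset (X := Y) (x := pullback.fst b b z) (U := ⊤) trivial
    obtain ⟨V₂, hV₂, hz₂, -⟩ := exists_isAffineOpen_mem_and_subset (X := Y) (x := pullback.snd b b z) (U := ⊤) trivial
    exact ⟨(⟨V₁, hV₁⟩, ⟨V₂, hV₂⟩), hz₁, hz₂⟩)
  refine IsZariskiLocalAtTarget.of_forall_exists_morphismRestrict (P := @IsClosedImmersion) fun z => ?_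
  obtain ⟨⟨⟨V₁, hV₁⟩, ⟨V₂, hV₂⟩⟩, hz⟩ : ∃ i, z ∈ O i := hO.exists_mem z
  refine ⟨O (⟨V₁, hV₁⟩, ⟨V₂, hV₂⟩), hz, ?_⟩
  obtain ⟨W₁, hW₁, hq₁⟩ := hc V₁ hV₁
  obtain ⟨W₂, hW₂, hq₂⟩ := hc V₂ hV₂
  have key : ∀ (V : Y.Opens) (W : Z.Opens), IsAffineOpen V → IsCompact (W : Set Z) →
      (r ≫ p).base '' (W : Set Z) = (V : Set Y) →
      ∃ g : W.toScheme ⟶ V.toScheme, g ≫ V.ι = W.ι ≫ r ≫ p ∧ H18Descent.fpqc g := by
    intro V W hV hW e
    have hsub : Set.range (W.ι ≫ r ≫ p) ⊆ Set.range V.ι := by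
      rintro _ ⟨w, rfl⟩
      rw [Scheme.Opens.range_ι, SetLike.mem_coe, ← SetLike.mem_coe, ← e]
      exact ⟨W.ι w, w.2, rfl⟩
    let g := IsOpenImmersion.lift V.ι (W.ι ≫ r ≫ p) hsub
    have hg : g ≫ V.ι = W.ι ≫ r ≫ p := IsOpenImmersion.lift_fac _ _ _
    haveI : IsAffine V.toScheme := hV
    haveI : CompactSpace W.toScheme := isCompact_iff_compactSpace.mp hW
    refine ⟨g, hg, ⟨⟨⟨fun y => ?_⟩, ?_⟩, ?_⟩⟩
    · obtain ⟨w, hw, hwy⟩ := e.ge y.2
      exact ⟨⟨w, hw⟩, V.ι.isOpenEmbedding.injective ((congrArg (fun φ : W.toScheme ⟶ Y => φ ⟨w, hw⟩) hg).trans hwy)⟩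
    · haveI : Flat (g ≫ V.ι) := hg ▸ inferInstance
      exact MorphismProperty.of_postcomp (W := @Flat) (W' := @IsOpenImmersion) g V.ι inferInstance inferInstance
    · exact (HasAffineProperty.iff_of_isAffine (P := @QuasiCompact)).mpr inferInstance
  obtain ⟨g₁, hg₁, hf₁⟩ := key V₁ W₁ hV₁ hW₁ hq₁
  obtain ⟨g₂, hg₂, hf₂⟩ := key V₂ W₂ hV₂ hW₂ hq₂
  -- the product of the two coverings
  let A := pullback (g₁ ≫ V₁.ι ≫ b) (g₂ ≫ V₂.ι ≫ b)
  let τ : A ⟶ pullback (V₁.ι ≫ b) (V₂.ι ≫ b) :=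
    pullback.map _ _ _ _ g₁ g₂ (𝟙 S) (by simp) (by simp)
  have hτ : H18Descent.fpqc τ := MorphismProperty.pullbackMap (P := H18Descent.fpqc) hf₁ hf₂ rfl rfl
  let ι₀ : pullback (V₁.ι ≫ b) (V₂.ι ≫ b) ⟶ pullback b b :=
    pullback.map _ _ _ _ V₁.ι V₂.ι (𝟙 S) (by simp) (by simp)
  let μ : A ⟶ pullback (p ≫ b) (p ≫ b) := pullback.map _ _ _ _ (W₁.ι ≫ r) (W₂.ι ≫ r) (𝟙 S)
    (by simp only [Category.comp_id, Category.assoc, ← Category.assoc g₁, hg₁])
    (by simp only [Category.comp_id, Category.assoc, ← Category.assoc g₂, hg₂])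
  have hμ : τ ≫ ι₀ = μ ≫ pullback.map (p ≫ b) (p ≫ b) b b p p (𝟙 S) (by simp) (by simp) := by
    apply pullback.hom_ext
    · simp [τ, ι₀, μ, hg₁]
    · simp [τ, ι₀, μ, hg₂]
  -- the restricted diagonal descends
  have hA : IsClosedImmersion (pullback.fst (τ ≫ ι₀) (pullback.diagonal b)) := by
    have h1 : IsPullback (pullback.fst μ v) (pullback.snd μ v ≫ f₁ ≫ p) (τ ≫ ι₀) (pullback.diagonal b) := by
      rw [hμ]
      exact (IsPullback.of_hasPullback μ v).paste_vert (isPullback_graph rfl sq v hv₁ hv₂).flip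
    haveI : IsClosedImmersion (pullback.fst μ v) :=
      MorphismProperty.of_isPullback (IsPullback.of_hasPullback μ v).flip hv
    rw [← h1.isoPullback_inv_fst]
    infer_instance
  have hB : IsClosedImmersion (pullback.fst ι₀ (pullback.diagonal b)) := by
    refine MorphismProperty.of_pullback_fst_of_descendsAlong (P := @IsClosedImmersion) (Q := H18Descent.fpqc) hτ ?_
    rw [← pullbackRightPullbackFstIso_hom_fst ι₀ (pullback.diagonal b) τ]
    infer_instance
  have hopen : Scheme.Hom.opensRange ι₀ = O (⟨V₁, hV₁⟩, ⟨V₂, hV₂⟩) := by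
    apply TopologicalSpace.Opens.ext
    show Set.range ι₀ = _
    rw [Scheme.Pullback.range_map, Scheme.Opens.range_ι, Scheme.Opens.range_ι]
    rfl
  rw [← hopen]
  haveI := hB
  exact (MorphismProperty.arrow_mk_iso_iff @IsClosedImmersion (morphismRestrictOpensRange (pullback.diagonal b) ι₀)).mpr
    (by rw [← pullbackSymmetry_hom_comp_fst]; infer_instance)

end Groth.Agent.H14EffRel
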